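import Groth.Agent.Krr.H483.ExtTwist
import Groth.Agent.Krr.H482.PullLambda
import Groth.Agent.Krr.H495.ExtExist

/-!
# `λ^i (x u) = λ^i (x) u^i` for a line element `u` of a model of `K(X)`
-/

set_option autoImplicit false

universe v u

open CategoryTheory CategoryTheory.Limits AlgebraicGeometry PowerSeries

namespace Groth.Agent.Krr.H483.LamTwist

open KRR Groth.Agent.Krr.H482.PullLambda Groth.Agent.Krr.H482.LamAlg Groth.Agent.Sga67.LocBasis
  Groth.Agent.Sga67.TensorOps Groth.Agent.Krr.H483.ExtTwist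

variable {X : Scheme.{u}} {K : Type v} [CommRing K] [LambdaRing.LambdaOps K]
  {P : LambdaRing.PosStructure K} {φ : SGA6.Kvb X →+ K}

/-- a line element is the class of an invertible module -/
theorem exists_of_isLine (hK : IsModel X K P φ) {u : K} (hu : P.IsLine u) :
    ∃ M : X.Modules, FlatMod.IsFinLocFreeOfRank 1 M ∧ φ (cl X M) = u := by
  obtain ⟨n, E, hn, hE, hx⟩ := (hK.mem_pos_iff u).1 hu.1
  have h1 := hK.aug_cl n E hE
  rw [hx, hu.2] at h1
  have h2 : n = 1 := by exact_mod_cast h1.symm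
  subst h2
  exact ⟨E, hE, hx⟩

/-- the class of an invertible module is a line element -/
theorem isLine_cl (hK : IsModel X K P φ) {M : X.Modules} (hM : FlatMod.IsFinLocFreeOfRank 1 M) :
    P.IsLine (φ (cl X M)) :=
  ⟨(hK.mem_pos_iff _).2 ⟨1, M, le_rfl, hM, rfl⟩, by rw [hK.aug_cl 1 M hM]; rfl⟩

theorem isFinLocFree_tensorPow {M : X.Modules} (hM : FlatMod.IsFinLocFree M) (i : ℕ) :
    FlatMod.IsFinLocFree (CohB1.tensorPow M i) := by
  induction i with
  | zero => exact isFinLocFree_structureModule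
  | succ i ih => exact isFinLocFree_tensorMod ih hM

/-- the class of a tensor power -/
theorem cl_tensorPow (hK : IsModel X K P φ) {M : X.Modules} (hM : FlatMod.IsFinLocFree M) (i : ℕ) :
    φ (cl X (CohB1.tensorPow M i)) = φ (cl X M) ^ i := by
  induction i with
  | zero => rw [pow_zero]; exact hK.map_one
  | succ i ih =>
    rw [pow_succ, ← ih]
    exact (hK.map_mul _ _ (isFinLocFree_tensorPow hM i) hM).symm

theorem lam_mul_cl (hK : IsModel X K P φ) {M : X.Modules} (hM : FlatMod.IsFinLocFreeOfRank 1 M)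
    {E : X.Modules} (hE : FlatMod.IsFinLocFree E) (i : ℕ) :
    LambdaRing.LambdaOps.lam i (φ (cl X E) * φ (cl X M)) =
      LambdaRing.LambdaOps.lam i (φ (cl X E)) * φ (cl X M) ^ i := by
  have hM' := isFinLocFree_of_rank hM
  obtain ⟨L, hLf, hL⟩ := Groth.Agent.Krr.H495.ExtExist.exists_isExtPow i E hE
  have hEM : FlatMod.IsFinLocFree (CohB1.tensorMod E M) := isFinLocFree_tensorMod hE hM'
  obtain ⟨L', hLf', hL'⟩ := Groth.Agent.Krr.H495.ExtExist.exists_isExtPow i (CohB1.tensorMod E M) hEM
  obtain ⟨e⟩ := nonempty_iso hE hM hL hL'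
  have h1 : φ (cl X E) * φ (cl X M) = φ (cl X (CohB1.tensorMod E M)) := hK.map_mul E M hE hM'
  have hp := isFinLocFree_tensorPow hM' i
  rw [h1, hK.map_lam i _ L' hEM hLf' hL', hK.map_lam i E L hE hLf hL, ← cl_tensorPow hK hM' i]
  have h2 : φ (cl X L) * φ (cl X (CohB1.tensorPow M i)) =
      φ (cl X (CohB1.tensorMod L (CohB1.tensorPow M i))) := hK.map_mul _ _ hLf hp
  rw [h2, cl_iso e (isFinLocFree_tensorMod hLf hp)]

/-- the series form -/
theorem lamSeries_mul_of {u a b : K}
    (ha : LambdaRing.lamSeries (a * u) = PowerSeries.rescale u (LambdaRing.lamSeries a))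
    (hb : LambdaRing.lamSeries (b * u) = PowerSeries.rescale u (LambdaRing.lamSeries b)) :
    LambdaRing.lamSeries ((a - b) * u) = PowerSeries.rescale u (LambdaRing.lamSeries (a - b)) := by
  have h1 : LambdaRing.lamSeries ((a - b) * u) * LambdaRing.lamSeries (b * u) =
      LambdaRing.lamSeries (a * u) := by
    rw [← lamSeries_add]; congr 1; ring
  have h2 : LambdaRing.lamSeries (a - b) * LambdaRing.lamSeries b = LambdaRing.lamSeries a := by
    rw [← lamSeries_add]; congr 1; ring
  have h3 := congrArg (PowerSeries.rescale u) h2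
  rw [map_mul, ← ha, ← hb, ← h1] at h3
  exact ((isUnit_lamSeries (b * u)).mul_right_cancel h3).symm

theorem lamSeries_mul_line (hK : IsModel X K P φ) {u : K} (hu : P.IsLine u) (x : K) :
    LambdaRing.lamSeries (x * u) = PowerSeries.rescale u (LambdaRing.lamSeries x) := by
  obtain ⟨M, hM, rfl⟩ := exists_of_isLine hK hu
  refine model_induction hK (C := fun x => LambdaRing.lamSeries (x * φ (cl X M)) =
    PowerSeries.rescale (φ (cl X M)) (LambdaRing.lamSeries x)) (fun m E _ hE => ?_)
    (fun a b ha hb => lamSeries_mul_of ha hb) x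
  ext i
  rw [coeff_rescale]
  simp only [LambdaRing.lamSeries, coeff_mk]
  rw [lam_mul_cl hK hM (isFinLocFree_of_rank hE) i, mul_comm]

/-- `λ^i (x u) = λ^i (x) u^i` for a line element `u`. -/
theorem lam_mul_line (hK : IsModel X K P φ) {u : K} (hu : P.IsLine u) (x : K) (i : ℕ) :
    LambdaRing.LambdaOps.lam i (x * u) = LambdaRing.LambdaOps.lam i x * u ^ i := by
  have h := congrArg (coeff i) (lamSeries_mul_line hK hu x)
  rw [coeff_rescale] at h
  simp only [LambdaRing.lamSeries, coeff_mk] at h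
  rw [h, mul_comm]

theorem lam_mul_line_pow (hK : IsModel X K P φ) {u : K} (hu : P.IsLine u) (x : K) (i n : ℕ) :
    LambdaRing.LambdaOps.lam i (x * u ^ n) = LambdaRing.LambdaOps.lam i x * u ^ (n * i) := by
  induction n generalizing x with
  | zero => rw [pow_zero, mul_one, zero_mul, pow_zero, mul_one]
  | succ n ih =>
    rw [pow_succ, ← mul_assoc, lam_mul_line hK hu, ih, mul_assoc, ← pow_add]
    congr 2
    ring

end Groth.Agent.Krr.H483.LamTwist
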