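import Groth.Agent.Krr.H484.PBCharts
import Groth.Agent.Sga5.ProjConn
import Groth.Agent.Ega3B.ProjProper
import Mathlib.AlgebraicGeometry.Noetherian

/-!
# Topology of a projective bundle

A projective bundle `π : P(E) ⟶ X` of a module of rank `r + 1` is proper, with connected fibres; `P(E)` is Noetherian
when `X` is and connected when `X` is.
-/

set_option autoImplicit false
universe u
open CategoryTheory CategoryTheory.Limits AlgebraicGeometry TopologicalSpace Opposite

namespace Groth.Agent.Krr.H483.PBTop

open Groth.Agent.Krr.H484.PBCharts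

variable {X P : Scheme.{u}}

theorem isProper {r : ℕ} {π : P ⟶ X} {E : X.Modules}
    (hE : FlatMod.IsFinLocFreeOfRank (r + 1) E) {O1 : P.Modules}
    {q : (Scheme.Modules.pullback π).obj E ⟶ O1} (B : KRR.IsProjBundle π E O1 q) : IsProper π := by
  choose W hW hx t using fun x : X => exists_triv hE x
  let 𝒰 : X.OpenCover := Scheme.Cover.mkOfCovers X (fun x => Spec Γ(X, W x)) (fun x => (hW x).fromSpec)
    (fun x => by
      have : x ∈ Set.range (hW x).fromSpec := by rw [(hW x).range_fromSpec]; exact hx x
      obtain ⟨y, hy⟩ := this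
      exact ⟨x, y, hy⟩) (fun x => inferInstance)
  apply IsZariskiLocalAtTarget.of_openCover (P := @IsProper) 𝒰
  intro x
  obtain ⟨j, hj, -⟩ := exists_chart B (A := Γ(X, W x)) (hW x).fromSpec (t x).some
  have hp : IsProper (CohB1.ProjSpace.toSpec r Γ(X, W x)) :=
    Groth.Agent.Ega3B.ProjProper.isProper_toSpec r _
  change IsProper (pullback.snd π (hW x).fromSpec)
  rw [← hj.isoPullback_inv_snd]
  infer_instance

/-- A trivialisation of `E` at the residue field of a point. -/
theorem exists_triv_point {n : ℕ} {E : X.Modules} (hE : FlatMod.IsFinLocFreeOfRank n E) (x : X) :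
    Nonempty ((Scheme.Modules.pullback (X.fromSpecResidueField x)).obj E ≅
      FlatMod.freeMod (Spec (CommRingCat.of (X.residueField x))) n) := by
  obtain ⟨W, hW, hx, ⟨t⟩⟩ := exists_triv hE x
  have hr : Set.range (X.fromSpecResidueField x) ⊆ Set.range hW.fromSpec := by
    rw [hW.range_fromSpec, Scheme.range_fromSpecResidueField]
    simpa using hx
  let k : Spec (X.residueField x) ⟶ Spec Γ(X, W) := IsOpenImmersion.lift hW.fromSpec (X.fromSpecResidueField x) hr
  have hk : k ≫ hW.fromSpec = X.fromSpecResidueField x := IsOpenImmersion.lift_fac _ _ _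
  exact ⟨(Scheme.Modules.pullbackCongr hk.symm).app E ≪≫
    (Scheme.Modules.pullbackComp k hW.fromSpec).symm.app E ≪≫
    (Scheme.Modules.pullback k).mapIso t ≪≫ Groth.Agent.PerfB.FlatPull.pullbackFreeMod k n⟩

theorem isConnected_range_chart {r : ℕ} {A : Type u} [CommRing A] [IsDomain A] (j : CohB1.ProjSpace r A ⟶ P) :
    _root_.IsConnected (Set.range j) :=
  have : ConnectedSpace (CohB1.ProjSpace r A) := Groth.Agent.Sga5.ProjConn.connectedSpace_projSpace r A
  isConnected_range j.continuous

theorem isConnected_fibre {r : ℕ} {π : P ⟶ X} {E : X.Modules}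
    (hE : FlatMod.IsFinLocFreeOfRank (r + 1) E) {O1 : P.Modules}
    {q : (Scheme.Modules.pullback π).obj E ⟶ O1} (B : KRR.IsProjBundle π E O1 q) (x : X) :
    _root_.IsConnected (π ⁻¹' {x} : Set P) := by
  obtain ⟨t⟩ := exists_triv_point hE x
  obtain ⟨j, hj, -⟩ := exists_chart B (A := X.residueField x) (X.fromSpecResidueField x) t
  have h1 : Set.range j = π ⁻¹' {x} := by
    rw [← Scheme.range_fromSpecResidueField x, ← Scheme.Pullback.range_fst, ← hj.isoPullback_hom_fst,
      Scheme.Hom.comp_base, TopCat.coe_comp, Set.range_comp]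
    have hsurj : Function.Surjective (hj.isoPullback.hom : _ → _) :=
      (Scheme.homeoOfIso hj.isoPullback).surjective
    rw [hsurj.range_eq, Set.image_univ]
    rfl
  rw [← h1]
  have hd : IsDomain (X.residueField x) :=
    (inferInstance : Field (X.residueField x)).isDomain
  exact @isConnected_range_chart P r (X.residueField x) _ hd j

theorem surjective {r : ℕ} {π : P ⟶ X} {E : X.Modules}
    (hE : FlatMod.IsFinLocFreeOfRank (r + 1) E) {O1 : P.Modules}
    {q : (Scheme.Modules.pullback π).obj E ⟶ O1} (B : KRR.IsProjBundle π E O1 q) :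
    Function.Surjective π := fun x => (isConnected_fibre hE B x).nonempty

theorem connectedSpace [ConnectedSpace X] {r : ℕ} {π : P ⟶ X} {E : X.Modules}
    (hE : FlatMod.IsFinLocFreeOfRank (r + 1) E) {O1 : P.Modules}
    {q : (Scheme.Modules.pullback π).obj E ⟶ O1} (B : KRR.IsProjBundle π E O1 q) : ConnectedSpace P := by
  have hp := isProper hE B
  have hs := surjective hE B
  have hq : Topology.IsQuotientMap π := π.isClosedMap.isQuotientMap π.continuous hs
  obtain ⟨x⟩ : Nonempty X := inferInstance
  obtain ⟨y, hy⟩ := hs x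
  have h1 := hq.isCoinducing.preimage_connectedComponent (isConnected_fibre hE B) y
  rw [PreconnectedSpace.connectedComponent_eq_univ, Set.preimage_univ] at h1
  have h2 : _root_.IsConnected (Set.univ : Set P) := h1 ▸ isConnected_connectedComponent
  exact connectedSpace_iff_univ.2 h2

theorem isNoetherian [IsNoetherian X] {r : ℕ} {π : P ⟶ X} {E : X.Modules}
    (hE : FlatMod.IsFinLocFreeOfRank (r + 1) E) {O1 : P.Modules}
    {q : (Scheme.Modules.pullback π).obj E ⟶ O1} (B : KRR.IsProjBundle π E O1 q) : IsNoetherian P := by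
  have hp := isProper hE B
  have h1 : IsLocallyNoetherian P := LocallyOfFiniteType.isLocallyNoetherian π
  have h2 : CompactSpace P := QuasiCompact.compactSpace_of_compactSpace π
  exact ⟨⟩

end Groth.Agent.Krr.H483.PBTop
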