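import Groth.Agent.Krr.H483.Main
import Groth.Agent.Krr.H483.PBTop
import Groth.Agent.Krr.H490.PBExist

/-!
# Existence of projective bundles over connected Noetherian schemes
-/

set_option autoImplicit false
universe u
open CategoryTheory CategoryTheory.Limits AlgebraicGeometry

namespace Groth.Agent.Krr.H483.ExistsPB

theorem existsPB : Groth.Agent.Krr.H483.Main.ExistsPB.{u} := by
  intro X hN hC r E hE
  obtain ⟨P, π, O1, q, B⟩ := Groth.Agent.Krr.H490.PBExist.exists_isProjBundle hE
  exact ⟨P, Groth.Agent.Krr.H483.PBTop.isNoetherian hE B, Groth.Agent.Krr.H483.PBTop.connectedSpace hE B,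
    π, O1, q, B⟩

end Groth.Agent.Krr.H483.ExistsPB
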