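import Groth.Agent.Sga67.TensorOps

/-!
# Exterior powers of a twist: `Λ^i (E ⊗ M) ≅ Λ^i E ⊗ M^{⊗ i}` for `M` invertible
-/

set_option autoImplicit false

universe u

open CategoryTheory CategoryTheory.Limits AlgebraicGeometry Opposite TopologicalSpace
open scoped TensorProduct
open Groth.Agent.Sga67.Sec Groth.Agent.Sga67.LocBasis Groth.Agent.Sga67.ExtSheaf
  Groth.Agent.Sga67.TensorOps

namespace Groth.Agent.Krr.H483.ExtTwist

variable {X : Scheme.{u}}

/-- a local generator -/
def RB {M : X.Modules} {U : X.Opens} (m : Sec M U) : Prop := IsLocBasis (fun _ : Fin 1 => m)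

section RB

variable {M : X.Modules} {U : X.Opens} {m : Sec M U}

theorem RB.res (hm : RB m) {V : X.Opens} (h : V ≤ U) : RB (Groth.Agent.Sga67.Sec.res M h m) :=
  IsLocBasis.restrict hm h

/-- coordinate with respect to a local generator -/
noncomputable def crd (hm : RB m) : Sec M U →ₗ[Γ(X, U)] Γ(X, U) :=
  (IsLocBasis.basis (b := fun _ : Fin 1 => m) hm le_rfl).coord 0

theorem crd_smul_gen (hm : RB m) (s : Sec M U) : crd hm s • m = s := by
  have h := (IsLocBasis.basis (b := fun _ : Fin 1 => m) hm le_rfl).sum_repr s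
  rw [Fin.sum_univ_one, IsLocBasis.basis_apply, res_self] at h
  exact h

theorem crd_gen_smul (hm : RB m) (a : Γ(X, U)) : crd hm (a • m) = a := by
  have h : IsLocBasis.basis (b := fun _ : Fin 1 => m) hm le_rfl 0 = m := by
    rw [IsLocBasis.basis_apply, res_self]
  have h1 : crd hm m = 1 := by
    have h2 := (IsLocBasis.basis (b := fun _ : Fin 1 => m) hm le_rfl).repr_self 0
    rw [h] at h2
    change (IsLocBasis.basis (b := fun _ : Fin 1 => m) hm le_rfl).repr m 0 = 1
    rw [h2]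
    simp
  rw [map_smul, h1, smul_eq_mul, mul_one]

end RB

/-- powers of a section of `M` -/
noncomputable def pw (M : X.Modules) (U : X.Opens) (m : Sec M U) :
    ∀ i, Sec (CohB1.tensorPow M i) U
  | 0 => one X U
  | i + 1 => tau (CohB1.tensorPow M i) M U (pw M U m i ⊗ₜ[Γ(X, U)] m)

theorem res_pw (M : X.Modules) {U V : X.Opens} (h : V ≤ U) (m : Sec M U) (i : ℕ) :
    Groth.Agent.Sga67.Sec.res _ h (pw M U m i) = pw M V (Groth.Agent.Sga67.Sec.res M h m) i := by
  induction i with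
  | zero => exact res_one X h
  | succ i ih =>
    change Groth.Agent.Sga67.Sec.res _ h (tau (CohB1.tensorPow M i) M U (pw M U m i ⊗ₜ[Γ(X, U)] m)) = _
    rw [← tau_tres, tres_tmul, ih]
    rfl

theorem pw_smul (M : X.Modules) (U : X.Opens) (a : Γ(X, U)) (m : Sec M U) (i : ℕ) :
    pw M U (a • m) i = a ^ i • pw M U m i := by
  induction i with
  | zero => rw [pow_zero, one_smul]; rfl
  | succ i ih =>
    change tau (CohB1.tensorPow M i) M U (pw M U (a • m) i ⊗ₜ[Γ(X, U)] (a • m)) =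
      a ^ (i + 1) • tau (CohB1.tensorPow M i) M U (pw M U m i ⊗ₜ[Γ(X, U)] m)
    rw [ih, ← TensorProduct.smul_tmul', TensorProduct.tmul_smul, smul_smul, map_smul, pow_succ]

theorem rb_pw {M : X.Modules} {U : X.Opens} {m : Sec M U} (hm : RB m) (i : ℕ) : RB (pw M U m i) := by
  induction i with
  | zero =>
    have h := isLocBasis_one.restrict (le_top : U ≤ ⊤)
    have h1 : (fun _ : Fin 1 => Groth.Agent.Sga67.Sec.res _ (le_top : U ≤ ⊤) (one X ⊤)) =
        (fun _ : Fin 1 => pw M U m 0) := by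
      funext _
      exact res_one X _
    rw [h1] at h
    exact h
  | succ i ih =>
    have h := isLocBasis_tensor (b := fun _ : Fin 1 => pw M U m i) ih (c := fun _ : Fin 1 => m) hm
    exact h.reindex (Equiv.uniqueProd (Fin 1) (Fin 1)).symm

/-- `e ↦ e ⊗ m` -/
noncomputable def tm (E M : X.Modules) (U : X.Opens) (m : Sec M U) :
    Sec E U →ₗ[Γ(X, U)] Sec (CohB1.tensorMod E M) U :=
  (tau E M U) ∘ₗ ((TensorProduct.mk Γ(X, U) (Sec E U) (Sec M U)).flip m)

theorem tm_apply (E M : X.Modules) (U : X.Opens) (m : Sec M U) (e : Sec E U) :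
    tm E M U m e = tau E M U (e ⊗ₜ[Γ(X, U)] m) := rfl

theorem res_tm (E M : X.Modules) {U V : X.Opens} (h : V ≤ U) (m : Sec M U) (e : Sec E U) :
    Groth.Agent.Sga67.Sec.res _ h (tm E M U m e) =
      tm E M V (Groth.Agent.Sga67.Sec.res M h m) (Groth.Agent.Sga67.Sec.res E h e) := by
  rw [tm_apply, tm_apply, ← tau_tres, tres_tmul]

theorem tm_smul (E M : X.Modules) (U : X.Opens) (a : Γ(X, U)) (m : Sec M U) :
    tm E M U (a • m) = a • tm E M U m := by
  ext e
  rw [LinearMap.smul_apply, tm_apply, tm_apply, TensorProduct.tmul_smul, map_smul]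

theorem tm_bijective {E M : X.Modules} {U : X.Opens} {m : Sec M U} (hm : RB m) {κ : Type*} [Fintype κ]
    {b : κ → Sec E U} (hb : IsLocBasis b) : Function.Bijective (tm E M U m) := by
  have h1 : Function.Bijective (tau E M U) := tau_bijective hb (c := fun _ : Fin 1 => m) hm le_rfl
  have h2 : Function.Bijective ((TensorProduct.mk Γ(X, U) (Sec E U) (Sec M U)).flip m) := by
    let e : Sec M U ≃ₗ[Γ(X, U)] Γ(X, U) :=
      { (crd hm) with
        invFun := fun a => a • m
        left_inv := fun s => crd_smul_gen hm s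
        right_inv := fun a => crd_gen_smul hm a }
    let F : Sec E U ≃ₗ[Γ(X, U)] Sec E U ⊗[Γ(X, U)] Sec M U :=
      (TensorProduct.rid Γ(X, U) (Sec E U)).symm ≪≫ₗ TensorProduct.congr (LinearEquiv.refl _ _) e.symm
    have h3 : ((TensorProduct.mk Γ(X, U) (Sec E U) (Sec M U)).flip m : Sec E U → _) = F := by
      funext x
      simp only [F, LinearEquiv.trans_apply, TensorProduct.rid_symm_apply, TensorProduct.congr_tmul,
        LinearEquiv.refl_apply]
      have : e.symm 1 = m := one_smul _ m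
      rw [this]
      rfl
    rw [h3]
    exact F.bijective
  exact h1.comp h2

theorem map_smul_eq {R : Type*} [CommRing R] {A B : Type*} [AddCommGroup A] [Module R A] [AddCommGroup B]
    [Module R B] (i : ℕ) (a : R) (f : A →ₗ[R] B) (x : ⋀[R]^i A) :
    exteriorPower.map i (a • f) x = a ^ i • exteriorPower.map i f x := by
  have h : exteriorPower.map i (a • f) = a ^ i • exteriorPower.map i f := by
    apply exteriorPower.linearMap_ext
    ext e
    simp only [LinearMap.compAlternatingMap_apply, exteriorPower.map_apply_ιMulti, LinearMap.smul_apply]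
    congr 1
    have h1 := (exteriorPower.ιMulti R i (M := B)).toMultilinearMap.map_smul_univ (fun _ => a) (fun j => f (e j))
    simp only [Finset.prod_const, Finset.card_univ, Fintype.card_fin] at h1
    exact h1
  rw [h, LinearMap.smul_apply]

section Main

variable {i : ℕ} {E M L L' : X.Modules} (φ : Phi i E L) (ψ : Phi i (CohB1.tensorMod E M) L')

/-- `e_1 ∧ ⋯ ∧ e_i ↦ (e_1 ⊗ m) ∧ ⋯ ∧ (e_i ⊗ m)` -/
noncomputable def G (U : X.affineOpens) (m : Sec M U.1) : Sec L U.1 →ₗ[Γ(X, U.1)] Sec L' U.1 :=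
  (ψ U).symm.toLinearMap ∘ₗ (exteriorPower.map i (tm E M U.1 m)) ∘ₗ (φ U).toLinearMap

theorem G_apply (U : X.affineOpens) (m : Sec M U.1) (l : Sec L U.1) :
    G φ ψ U m l = (ψ U).symm (exteriorPower.map i (tm E M U.1 m) (φ U l)) := rfl

theorem G_smul (U : X.affineOpens) (a : Γ(X, U.1)) (m : Sec M U.1) (l : Sec L U.1) :
    G φ ψ U (a • m) l = a ^ i • G φ ψ U m l := by
  rw [G_apply, G_apply, tm_smul, map_smul_eq, map_smul]

include φ ψ in
theorem res_G (hφ : PhiComp φ) (hψ : PhiComp ψ) {U V : X.affineOpens} (h : V.1 ≤ U.1) (m : Sec M U.1)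
    (l : Sec L U.1) : Groth.Agent.Sga67.Sec.res L' h (G φ ψ U m l) =
      G φ ψ V (Groth.Agent.Sga67.Sec.res M h m) (Groth.Agent.Sga67.Sec.res L h l) := by
  refine phi_induction φ U (C := fun l => Groth.Agent.Sga67.Sec.res L' h (G φ ψ U m l) =
      G φ ψ V (Groth.Agent.Sga67.Sec.res M h m) (Groth.Agent.Sga67.Sec.res L h l)) ?_ ?_ ?_ ?_ l
  · simp only [map_zero]
  · intro x y hx hy
    simp only [map_add, hx, hy]
  · intro a x hx
    rw [map_smul, res_smul, res_smul, map_smul, hx]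
  · intro e
    rw [hφ U V h e, G_apply, G_apply, LinearEquiv.apply_symm_apply, LinearEquiv.apply_symm_apply,
      exteriorPower.map_apply_ιMulti, exteriorPower.map_apply_ιMulti, hψ U V h]
    congr 2
    funext j
    exact res_tm E M h m (e j)

theorem G_bijective {U : X.affineOpens} {m : Sec M U.1} (hm : RB m) {κ : Type*} [Fintype κ]
    {b : κ → Sec E U.1} (hb : IsLocBasis b) : Function.Bijective (G φ ψ U m) := by
  have h1 := tm_bijective (E := E) hm hb
  let e := LinearEquiv.ofBijective (tm E M U.1 m) h1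
  have h2 : Function.Bijective (exteriorPower.map i (tm E M U.1 m)) := by
    refine Function.bijective_iff_has_inverse.mpr ⟨exteriorPower.map i e.symm.toLinearMap, ?_, ?_⟩
    · intro y
      rw [← LinearMap.comp_apply, ← exteriorPower.map_comp]
      have : e.symm.toLinearMap ∘ₗ (tm E M U.1 m) = LinearMap.id := by
        ext s
        exact e.symm_apply_apply s
      rw [this, exteriorPower.map_id]
      rfl
    · intro y
      rw [← LinearMap.comp_apply, ← exteriorPower.map_comp]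
      have : (tm E M U.1 m) ∘ₗ e.symm.toLinearMap = LinearMap.id := by
        ext s
        exact e.apply_symm_apply s
      rw [this, exteriorPower.map_id]
      rfl
  exact (ψ U).symm.bijective.comp (h2.comp (φ U).bijective)

/-- the bilinear map `(l, n) ↦ c(n) G(l)` -/
noncomputable def Fm (U : X.affineOpens) (m : Sec M U.1) (hm : RB m) :
    (Sec L U.1 ⊗[Γ(X, U.1)] Sec (CohB1.tensorPow M i) U.1) →ₗ[Γ(X, U.1)] Sec L' U.1 :=
  TensorProduct.lift (LinearMap.mk₂ Γ(X, U.1) (fun l n => crd (rb_pw hm i) n • G φ ψ U m l)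
    (fun l l' n => by rw [map_add, smul_add])
    (fun a l n => by rw [map_smul, smul_comm])
    (fun l n n' => by rw [map_add, add_smul])
    (fun a l n => by rw [map_smul, smul_eq_mul, mul_smul]))

theorem Fm_tmul (U : X.affineOpens) (m : Sec M U.1) (hm : RB m) (l : Sec L U.1)
    (n : Sec (CohB1.tensorPow M i) U.1) :
    Fm φ ψ U m hm (l ⊗ₜ[Γ(X, U.1)] n) = crd (rb_pw hm i) n • G φ ψ U m l := rfl

theorem Fm_bijective {U : X.affineOpens} {m : Sec M U.1} (hm : RB m) {κ : Type*} [Fintype κ]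
    {b : κ → Sec E U.1} (hb : IsLocBasis b) : Function.Bijective (Fm φ ψ U m hm) := by
  let e : Sec (CohB1.tensorPow M i) U.1 ≃ₗ[Γ(X, U.1)] Γ(X, U.1) :=
    { (crd (rb_pw hm i)) with
      invFun := fun a => a • pw M U.1 m i
      left_inv := fun s => crd_smul_gen (rb_pw hm i) s
      right_inv := fun a => crd_gen_smul (rb_pw hm i) a }
  let F : (Sec L U.1 ⊗[Γ(X, U.1)] Sec (CohB1.tensorPow M i) U.1) ≃ₗ[Γ(X, U.1)] Sec L U.1 :=
    TensorProduct.congr (LinearEquiv.refl _ _) e ≪≫ₗ TensorProduct.rid Γ(X, U.1) (Sec L U.1)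
  have h : Fm φ ψ U m hm = (G φ ψ U m) ∘ₗ F.toLinearMap := by
    ext l n
    simp only [TensorProduct.AlgebraTensorModule.curry_apply, TensorProduct.curry_apply,
      LinearMap.coe_restrictScalars, LinearMap.comp_apply, LinearEquiv.coe_coe]
    rw [Fm_tmul]
    have h1 : F (l ⊗ₜ[Γ(X, U.1)] n) = crd (rb_pw hm i) n • l := by
      simp only [F, LinearEquiv.trans_apply, TensorProduct.congr_tmul, LinearEquiv.refl_apply,
        TensorProduct.rid_tmul]
      rfl
    rw [h1, map_smul]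
  rw [h]
  exact (G_bijective φ ψ hm hb).comp F.bijective

end Main

/-- `Λ^i (E ⊗ M) ≅ Λ^i E ⊗ M^{⊗ i}` -/
theorem nonempty_iso {i : ℕ} {E M L L' : X.Modules} (hE : FlatMod.IsFinLocFree E)
    (hM : FlatMod.IsFinLocFreeOfRank 1 M) (hL : ExtPow.IsExtPow i E L)
    (hL' : ExtPow.IsExtPow i (CohB1.tensorMod E M) L') :
    Nonempty (CohB1.tensorMod L (CohB1.tensorPow M i) ≅ L') := by
  obtain ⟨φ, hφ⟩ := exists_phi hL
  obtain ⟨ψ, hψ⟩ := exists_phi hL'
  let 𝓑 := {U : X.affineOpens // ∃ m : Sec M U.1, RB m}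
  have hM' : ∀ x : X, ∃ (U : X.Opens), x ∈ U ∧ ∃ m : Sec M U, RB m := by
    intro x
    obtain ⟨U, hx, hU⟩ := hM x
    obtain ⟨b, hb⟩ := nonempty_restrict_iso_iff.1 hU
    refine ⟨U, hx, b 0, ?_⟩
    have : b = fun _ => b 0 := by funext j; rw [Subsingleton.elim j 0]
    rw [this] at hb
    exact hb
  have hB : Opens.IsBasis (Set.range (fun U : 𝓑 => U.1.1)) := by
    rw [Opens.isBasis_iff_nbhd]
    intro U x hx
    obtain ⟨V, hxV, m, hm⟩ := hM' x
    obtain ⟨_, ⟨W, rfl⟩, hxW, hW⟩ := Opens.isBasis_iff_nbhd.mp (affineBasis X)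
      (show x ∈ U ⊓ V from ⟨hx, hxV⟩)
    exact ⟨W.1, ⟨⟨W, _, hm.res (hW.trans inf_le_right)⟩, rfl⟩, hxW, hW.trans inf_le_left⟩
  let mm : ∀ U : 𝓑, Sec M U.1.1 := fun U => U.2.choose
  have hmm : ∀ U : 𝓑, RB (mm U) := fun U => U.2.choose_spec
  obtain ⟨f, hf⟩ := exists_tensor_hom hB L (CohB1.tensorPow M i) L'
    (fun U => Fm φ ψ U.1 (mm U) (hmm U)) (by
      intro U V h l n
      rw [Fm_tmul, Fm_tmul, res_smul, res_G φ ψ hφ hψ]
      have ha := crd_smul_gen (hmm V) (Groth.Agent.Sga67.Sec.res M h (mm U))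
      have hn := crd_smul_gen (rb_pw (hmm U) i) n
      have h1 : Groth.Agent.Sga67.Sec.res _ h n =
          (resO X h (crd (rb_pw (hmm U) i) n) * crd (hmm V) (Groth.Agent.Sga67.Sec.res M h (mm U)) ^ i) •
            pw M V.1.1 (mm V) i := by
        conv_lhs => rw [← hn]
        rw [res_smul, res_pw, ← ha, pw_smul, smul_smul]
        congr 2
        rw [crd_gen_smul]
      rw [h1, crd_gen_smul, mul_smul, ← G_smul, ha])
  have hiso : IsIso f := isIso_of_bijective f (by
    intro x U hx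
    obtain ⟨V, hVU, hxV, n, b, hb⟩ := exists_basis_nhd hE hx
    obtain ⟨_, ⟨W, rfl⟩, hxW, hW⟩ := Opens.isBasis_iff_nbhd.mp hB hxV
    refine ⟨W.1.1, hW.trans hVU, hxW, ?_⟩
    have hb' := hb.restrict hW
    have hL1 := isLocBasis_extPow φ hφ (U := W.1) hb'
    have ht : Function.Bijective (tau L (CohB1.tensorPow M i) W.1.1) :=
      tau_bijective hL1 (c := fun _ : Fin 1 => pw M W.1.1 (mm W) i) (rb_pw (hmm W) i) le_rfl
    have h2 : (appS f W.1.1) ∘ (tau L (CohB1.tensorPow M i) W.1.1) = Fm φ ψ W.1 (mm W) (hmm W) :=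
      funext fun t => hf W t
    have h3 := Fm_bijective φ ψ (hmm W) hb'
    rw [← h2] at h3
    exact (Function.Bijective.of_comp_iff _ ht).1 h3)
  exact ⟨asIso f⟩

end Groth.Agent.Krr.H483.ExtTwist
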