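import Groth.Agent.Books.Lambda2
import Mathlib.Algebra.Polynomial.Eval.Coeff
import Mathlib.Algebra.Polynomial.Monic

/-!
# The gamma-filtration of a projective bundle, algebraic form

`K → Q` a map of λ-rings with positive structure, `l` a line element of `Q` such that `1, l, …, l^r` is a basis of
`Q` over `K`, `λ^i(g(x) l^n) = λ^i(g x) l^(n i)`, and `Σ (-1)^i g(λ^i e) l^(r+1-i) = 0` for a positive `e` of
augmentation `r + 1`.  Then the γ-filtration of `Q` induces that of `K` (no splitting hypothesis).
-/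

set_option autoImplicit false
set_option linter.unusedSectionVars false
set_option linter.unusedSimpArgs false
set_option linter.deprecated false

universe v w

open PowerSeries Finset LambdaRing

namespace Groth.Agent.Krr.H483.GammaPB

open Groth.Agent.Books.Lambda1 Groth.Agent.Books.Lambda2

variable {K : Type v} [CommRing K] [LambdaOps K] {P : PosStructure K}
  {Q : Type w} [CommRing Q] [LambdaOps Q] {PQ : PosStructure Q}
  {g : K →+* Q} {l : Q} {r : ℕ} {e : K}

/-- polynomials whose `i`-th coefficient is in `F^(k-i)` -/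
def W (P : PosStructure K) (k : ℕ) (p : Polynomial K) : Prop :=
  ∀ i, p.coeff i ∈ gammaFiltration P (k - i)

lemma W_add {k : ℕ} {p q : Polynomial K} (hp : W P k p) (hq : W P k q) : W P k (p + q) := fun i => by
  rw [Polynomial.coeff_add]
  exact add_mem (hp i) (hq i)

lemma W_sub {k : ℕ} {p q : Polynomial K} (hp : W P k p) (hq : W P k q) : W P k (p - q) := fun i => by
  rw [Polynomial.coeff_sub]
  exact sub_mem (hp i) (hq i)

lemma W_neg {k : ℕ} {p : Polynomial K} (hp : W P k p) : W P k (-p) := fun i => by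
  rw [Polynomial.coeff_neg]
  exact neg_mem (hp i)

lemma W_zero (k : ℕ) : W P k 0 := fun i => by
  rw [Polynomial.coeff_zero]
  exact zero_mem _

lemma W_mul {k m : ℕ} {p q : Polynomial K} (hp : W P k p) (hq : W P m q) : W P (k + m) (p * q) := fun i => by
  rw [Polynomial.coeff_mul]
  refine sum_mem fun x hx => ?_
  have h1 := Finset.mem_antidiagonal.1 hx
  exact filtration_anti P (by omega) (mul_mem_filtration P _ _ _ _ (hp x.1) (hq x.2))

lemma W_anti {k m : ℕ} (h : k ≤ m) {p : Polynomial K} (hp : W P m p) : W P k p := fun i =>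
  filtration_anti P (by omega) (hp i)

lemma W_C {k : ℕ} {a : K} (ha : a ∈ gammaFiltration P k) : W P k (Polynomial.C a) := fun i => by
  rw [Polynomial.coeff_C]
  split_ifs with h
  · subst h; exact ha
  · exact zero_mem _

lemma W_C_mul_X_pow {k n : ℕ} {a : K} (ha : a ∈ gammaFiltration P (k - n)) :
    W P k (Polynomial.C a * Polynomial.X ^ n) := fun i => by
  rw [Polynomial.coeff_C_mul_X_pow]
  split_ifs with h
  · subst h; exact ha
  · exact zero_mem _

lemma W_X : W P 1 (Polynomial.X : Polynomial K) := fun i => by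
  rw [Polynomial.coeff_X]
  split_ifs with h
  · subst h; exact mem_filtration_zero P _
  · exact zero_mem _

/-- division with remainder by a monic polynomial in `W` -/
lemma exists_mod {m : ℕ} {q : Polynomial K} (hq : W P m q) (hmon : q.Monic) (hdeg : q.natDegree = m)
    (k : ℕ) : ∀ (n : ℕ) (p : Polynomial K), W P k p → p.natDegree < m + n →
      ∃ p' s : Polynomial K, W P k p' ∧ (∀ i, m ≤ i → p'.coeff i = 0) ∧ p = p' + s * q := by
  intro n
  induction n with
  | zero =>
    intro p hp hlt
    refine ⟨p, 0, hp, fun i hi => Polynomial.coeff_eq_zero_of_natDegree_lt (by omega), by simp⟩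
  | succ n ih =>
    intro p hp hlt
    by_cases h : p.natDegree < m + n
    · exact ih p hp h
    · have hn : p.natDegree = m + n := by omega
      let c : Polynomial K := Polynomial.C (p.coeff (m + n)) * Polynomial.X ^ n
      have hc : W P (k - m) c := W_C_mul_X_pow (by
        have := hp (m + n)
        exact filtration_anti P (by omega) this)
      have h1 : W P k (p - c * q) := W_sub hp (W_anti (by omega) (W_mul hc hq))
      by_cases h0 : m + n = 0
      · -- `m = 0`: `q = 1`
        have hm0 : m = 0 := by omega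
        have hq1 : q = 1 := by
          rw [hm0] at hdeg
          exact (Polynomial.Monic.natDegree_eq_zero hmon).1 hdeg
        refine ⟨0, p, W_zero k, fun i _ => Polynomial.coeff_zero i, by rw [hq1]; simp⟩
      · have h2 : (p - c * q).natDegree < m + n := by
          rw [Nat.lt_iff_add_one_le]
          have : ∀ j, m + n - 1 < j → (p - c * q).coeff j = 0 := by
            intro j hj
            rw [Polynomial.coeff_sub]
            have h3 : (c * q).coeff j = p.coeff (m + n) * (if n ≤ j then q.coeff (j - n) else 0) := by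
              rw [mul_assoc, Polynomial.coeff_C_mul, Polynomial.coeff_X_pow_mul']
            rw [h3]
            rcases Nat.lt_or_ge (m + n) j with hj' | hj'
            · have a1 : p.coeff j = 0 := Polynomial.coeff_eq_zero_of_natDegree_lt (by omega)
              have a2 : q.coeff (j - n) = 0 := Polynomial.coeff_eq_zero_of_natDegree_lt (by omega)
              rw [a1, a2]
              simp
            · have hj'' : j = m + n := by omega
              subst hj''
              rw [if_pos (by omega)]
              have h4 : m + n - n = m := by omega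
              have h5 : q.coeff m = 1 := by
                rw [← hdeg]; exact hmon
              rw [h4, h5, mul_one, sub_self]
          have h3 := Polynomial.natDegree_le_iff_coeff_eq_zero.2 (fun j hj => this j hj)
          omega
        obtain ⟨p', s, hp', hp'', hs⟩ := ih _ h1 h2
        refine ⟨p', s + c, hp', hp'', ?_⟩
        rw [add_mul, ← add_assoc, ← hs]
        ring

variable (P PQ g l r e) in
/-- The hypotheses. -/
structure Hyp : Prop where
  lam_map : ∀ i x, g (LambdaOps.lam i x) = LambdaOps.lam i (g x)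
  aug_map : ∀ x, PQ.aug (g x) = P.aug x
  pos_map : ∀ x ∈ P.pos, g x ∈ PQ.pos
  line : PQ.IsLine l
  lam_mul : ∀ (i n : ℕ), ∀ x ∈ P.pos, LambdaOps.lam i (g x * l ^ n) = LambdaOps.lam i (g x) * l ^ (n * i)
  pos : e ∈ P.pos
  aug : P.aug e = r + 1
  rel : ∑ i ∈ range (r + 2), (-1 : Q) ^ i * g (LambdaOps.lam i e) * l ^ (r + 1 - i) = 0
  bij : Function.Bijective (fun a : Fin (r + 1) → K => ∑ i : Fin (r + 1), g (a i) * l ^ (i : ℕ))

variable (P g l) in
/-- The candidate for the filtration. -/
def A (k : ℕ) : Set Q := {y | ∃ p : Polynomial K, W P k p ∧ p.eval₂ g (l - 1) = y}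

lemma A_add {k : ℕ} {x y : Q} (hx : x ∈ A P g l k) (hy : y ∈ A P g l k) : x + y ∈ A P g l k := by
  obtain ⟨p, hp, rfl⟩ := hx
  obtain ⟨q, hq, rfl⟩ := hy
  exact ⟨p + q, W_add hp hq, Polynomial.eval₂_add _ _⟩

lemma A_neg {k : ℕ} {x : Q} (hx : x ∈ A P g l k) : -x ∈ A P g l k := by
  obtain ⟨p, hp, rfl⟩ := hx
  exact ⟨-p, W_neg hp, Polynomial.eval₂_neg _⟩

lemma A_zero (k : ℕ) : (0 : Q) ∈ A P g l k := ⟨0, W_zero k, Polynomial.eval₂_zero _ _⟩

lemma A_sum {k : ℕ} {ι : Type*} (s : Finset ι) (f : ι → Q) (h : ∀ i ∈ s, f i ∈ A P g l k) :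
    ∑ i ∈ s, f i ∈ A P g l k := by
  classical
  induction s using Finset.induction_on with
  | empty => simpa using A_zero k
  | insert a s ha ih =>
    rw [Finset.sum_insert ha]
    exact A_add (h a (Finset.mem_insert_self _ _)) (ih fun i hi => h i (Finset.mem_insert_of_mem hi))

lemma A_mul {k m : ℕ} {x y : Q} (hx : x ∈ A P g l k) (hy : y ∈ A P g l m) : x * y ∈ A P g l (k + m) := by
  obtain ⟨p, hp, rfl⟩ := hx
  obtain ⟨q, hq, rfl⟩ := hy
  exact ⟨p * q, W_mul hp hq, Polynomial.eval₂_mul _ _⟩

lemma A_anti {k m : ℕ} (h : k ≤ m) {x : Q} (hx : x ∈ A P g l m) : x ∈ A P g l k := by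
  obtain ⟨p, hp, rfl⟩ := hx
  exact ⟨p, W_anti h hp, rfl⟩

lemma A_map {k : ℕ} {a : K} (ha : a ∈ gammaFiltration P k) : g a ∈ A P g l k :=
  ⟨Polynomial.C a, W_C ha, Polynomial.eval₂_C _ _⟩

lemma A_l : l - 1 ∈ A P g l 1 := ⟨Polynomial.X, W_X, Polynomial.eval₂_X _ _⟩

lemma A_l_zero : l ∈ A P g l 0 := by
  have h1 : l = (l - 1) + 1 := by ring
  have h2 : (1 : Q) ∈ A P g l 0 := by
    have := A_map (g := g) (l := l) (mem_filtration_zero P (1 : K))
    rwa [map_one] at this
  have h3 := A_add (A_anti (Nat.zero_le 1) (A_l (P := P) (g := g) (l := l))) h2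
  rwa [← h1] at h3

lemma A_one : (1 : Q) ∈ A P g l 0 := by
  have := A_map (g := g) (l := l) (mem_filtration_zero P (1 : K))
  rwa [map_one] at this

lemma A_pow_zero (n : ℕ) {x : Q} (hx : x ∈ A P g l 0) : x ^ n ∈ A P g l 0 := by
  induction n with
  | zero => rw [pow_zero]; exact A_one
  | succ n ih => rw [pow_succ]; exact A_mul (k := 0) (m := 0) ih hx

/-- `L - 1 ∈ A^1` for `L` a power of `l` -/
lemma A_pow_sub_one (n : ℕ) : l ^ n - 1 ∈ A P g l 1 := by
  induction n with
  | zero => rw [pow_zero, sub_self]; exact A_zero 1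
  | succ n ih =>
    have h1 : l ^ (n + 1) - 1 = (l ^ n - 1) * l + (l - 1) := by ring
    rw [h1]
    exact A_add (A_mul (k := 1) (m := 0) ih A_l_zero) A_l

/-- everything is in `A^0` -/
lemma Hyp.A_zero_eq (H : Hyp P PQ g l r e) (y : Q) : y ∈ A P g l 0 := by
  obtain ⟨a, rfl⟩ := H.bij.2 y
  refine A_sum _ _ fun i _ => ?_
  exact A_mul (k := 0) (m := 0) (A_map (mem_filtration_zero P _)) (A_pow_zero _ A_l_zero)

/-- power series whose `k`-th coefficient is in `A^k` -/
def Rs (P : PosStructure K) (g : K →+* Q) (l : Q) (s : PowerSeries Q) : Prop :=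
  ∀ k, coeff k s ∈ A P g l k

lemma Rs_mul {s t : PowerSeries Q} (hs : Rs P g l s) (ht : Rs P g l t) : Rs P g l (s * t) := fun k => by
  rw [coeff_mul]
  refine A_sum _ _ fun x hx => ?_
  have h1 := Finset.mem_antidiagonal.1 hx
  rw [← h1]
  exact A_mul (hs _) (ht _)

lemma Rs_add {s t : PowerSeries Q} (hs : Rs P g l s) (ht : Rs P g l t) : Rs P g l (s + t) := fun k => by
  rw [map_add]
  exact A_add (hs _) (ht _)

lemma Rs_one : Rs P g l 1 := fun k => by
  rw [coeff_one]
  split_ifs with h
  · subst h; exact A_one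
  · exact A_zero _

lemma Rs_pow {s : PowerSeries Q} (hs : Rs P g l s) (n : ℕ) : Rs P g l (s ^ n) := by
  induction n with
  | zero => rw [pow_zero]; exact Rs_one
  | succ n ih => rw [pow_succ]; exact Rs_mul ih hs

lemma Rs_sum {ι : Type*} (s : Finset ι) (f : ι → PowerSeries Q) (h : ∀ i ∈ s, Rs P g l (f i)) :
    Rs P g l (∑ i ∈ s, f i) := fun k => by
  rw [map_sum]
  exact A_sum _ _ fun i hi => h i hi k

lemma Rs_C_mul_X_pow {n : ℕ} {a : Q} (ha : a ∈ A P g l n) : Rs P g l (PowerSeries.C a * X ^ n) := fun k => by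
  rw [coeff_C_mul, coeff_X_pow]
  split_ifs with h
  · subst h; rwa [mul_one]
  · rw [mul_zero]; exact A_zero _

lemma Rs_C {a : Q} (ha : a ∈ A P g l 0) : Rs P g l (PowerSeries.C a) := by
  have := Rs_C_mul_X_pow (n := 0) ha
  rwa [pow_zero, mul_one] at this

/-- the polynomial form of the gamma series of a positive element minus its augmentation -/
lemma polynomial_gamma (x : K) (hx : x ∈ P.pos) :
    (∑ i ∈ range ((P.aug x).toNat + 1), Polynomial.C (LambdaOps.lam i x) *
      (Polynomial.X ^ i * (1 - Polynomial.X) ^ ((P.aug x).toNat - i)) : Polynomial K) =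
    ∑ i ∈ range ((P.aug x).toNat + 1), Polynomial.C (gamma i (x - ((P.aug x).toNat : K))) *
      Polynomial.X ^ i := by
  set m := (P.aug x).toNat with hm
  have hp : ∀ i, gamma i (x - (m : K)) = (∑ i ∈ range (m + 1), Polynomial.C (LambdaOps.lam i x) *
      (Polynomial.X ^ i * (1 - Polynomial.X) ^ (m - i)) : Polynomial K).coeff i := by
    intro i
    rw [← coeff_gammaSeries, hm, gammaSeries_pos_sub P x hx, ← Polynomial.coeff_coe]
    congr 1
    simp only [hm, ← Polynomial.coeToPowerSeries.ringHom_apply, map_sum, map_mul, map_pow,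
      map_sub, map_one]
    simp only [Polynomial.coeToPowerSeries.ringHom_apply, Polynomial.coe_C, Polynomial.coe_X]
  ext n
  rw [← hp, Polynomial.finset_sum_coeff]
  simp only [Polynomial.coeff_C_mul, Polynomial.coeff_X_pow, mul_ite, mul_one, mul_zero]
  rw [Finset.sum_ite_eq]
  split_ifs with h
  · rfl
  · rw [hp, Polynomial.finset_sum_coeff]
    refine Finset.sum_eq_zero fun i hi => ?_
    have hi' := Finset.mem_range.1 hi
    have hn' : ¬ n < m + 1 := by simpa using h
    rw [Polynomial.coeff_C_mul]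
    rw [Polynomial.coeff_eq_zero_of_natDegree_lt, mul_zero]
    refine lt_of_le_of_lt Polynomial.natDegree_mul_le ?_
    have h1 := Polynomial.natDegree_X_pow_le (R := K) i
    have h2 : ((1 - Polynomial.X : Polynomial K) ^ (m - i)).natDegree ≤ m - i := by
      calc ((1 - Polynomial.X : Polynomial K) ^ (m - i)).natDegree ≤
            (m - i) * (1 - Polynomial.X : Polynomial K).natDegree := Polynomial.natDegree_pow_le
          _ ≤ (m - i) * 1 := by
              apply Nat.mul_le_mul_left
              calc (1 - Polynomial.X : Polynomial K).natDegree ≤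
                max (1 : Polynomial K).natDegree (Polynomial.X : Polynomial K).natDegree :=
                    Polynomial.natDegree_sub_le _ _
                _ ≤ 1 := by
                    rw [Polynomial.natDegree_one]
                    simpa using Polynomial.natDegree_X_le
          _ = m - i := by ring
    omega

/-- the gamma series of `g(x) l^n - ε(x)` -/
lemma Hyp.gammaSeries_mul (H : Hyp P PQ g l r e) (n : ℕ) (x : K) (hx : x ∈ P.pos) :
    gammaSeries (g x * l ^ n - ((P.aug x).toNat : Q)) =
      ∑ j ∈ range ((P.aug x).toNat + 1), (PowerSeries.C (g (gamma j (x - ((P.aug x).toNat : K)))) * X ^ j) *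
        PowerSeries.C (l ^ n) ^ j * (1 + PowerSeries.C (l ^ n - 1) * X ^ 1) ^ ((P.aug x).toNat - j) := by
  have hpos : g x * l ^ n ∈ PQ.pos := by
    rcases Nat.eq_zero_or_pos n with rfl | hn
    · simpa using H.pos_map x hx
    · exact PQ.mul_mem _ _ (H.pos_map x hx) (IsLine_pow PQ H.line n).1
  have haug : PQ.aug (g x * l ^ n) = P.aug x := by
    rw [map_mul, map_pow, H.line.2, one_pow, mul_one, H.aug_map]
  have h1 := gammaSeries_pos_sub PQ _ hpos
  rw [haug] at h1
  rw [h1]
  set m := (P.aug x).toNat with hm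
  set L := l ^ n with hL
  -- the unit `u = 1 + (L - 1) X`
  obtain ⟨u, hudef⟩ : ∃ u : PowerSeries Q, u = 1 + PowerSeries.C (L - 1) * X ^ 1 := ⟨_, rfl⟩
  have hu : IsUnit u := by
    rw [PowerSeries.isUnit_iff_constantCoeff]
    simp [hudef]
  obtain ⟨v, huv⟩ := hu.exists_right_inv
  obtain ⟨Y, hYdef⟩ : ∃ Y : PowerSeries Q, Y = PowerSeries.C L * X * v := ⟨_, rfl⟩
  have hY : 1 - Y = (1 - X) * v := by
    calc 1 - Y = u * v - PowerSeries.C L * X * v := by rw [huv, hYdef]
      _ = (1 - X) * v := by
        simp only [hudef, map_sub, map_one, pow_one]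
        ring
  rw [← hudef]
  have key := congrArg (Polynomial.eval₂ ((PowerSeries.C (R := Q)).comp g) Y) (polynomial_gamma x hx)
  rw [← hm] at key
  simp only [Polynomial.eval₂_finset_sum, Polynomial.eval₂_mul, Polynomial.eval₂_C, Polynomial.eval₂_pow,
    Polynomial.eval₂_X, Polynomial.eval₂_sub, Polynomial.eval₂_one, RingHom.comp_apply] at key
  have key2 := congrArg (fun t => u ^ m * t) key
  simp only [Finset.mul_sum] at key2
  have e1 : ∀ i ∈ range (m + 1), PowerSeries.C (LambdaOps.lam i (g x * L)) * (X ^ i * (1 - X) ^ (m - i)) =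
      u ^ m * (PowerSeries.C (g (LambdaOps.lam i x)) * (Y ^ i * (1 - Y) ^ (m - i))) := by
    intro i hi
    have hi' := Finset.mem_range.1 hi
    have h3 : u ^ m = u ^ i * u ^ (m - i) := by rw [← pow_add]; congr 1; omega
    have h4 : LambdaOps.lam i (g x * L) = g (LambdaOps.lam i x) * L ^ i := by
      rw [hL, H.lam_mul i n x hx, ← H.lam_map, ← pow_mul]
    have h5 : (1 - X) ^ (m - i) = (u * (1 - Y)) ^ (m - i) := by
      congr 1
      rw [hY]
      calc (1 - X : PowerSeries Q) = (1 - X) * (u * v) := by rw [huv, mul_one]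
        _ = u * ((1 - X) * v) := by ring
    have h6 : PowerSeries.C L * X = u * Y := by
      calc PowerSeries.C L * X = PowerSeries.C L * X * (u * v) := by rw [huv, mul_one]
        _ = u * Y := by rw [hYdef]; ring
    calc PowerSeries.C (LambdaOps.lam i (g x * L)) * (X ^ i * (1 - X) ^ (m - i)) =
          PowerSeries.C (g (LambdaOps.lam i x)) * ((PowerSeries.C L * X) ^ i * (1 - X) ^ (m - i)) := by
            rw [h4, map_mul, map_pow]; ring
      _ = PowerSeries.C (g (LambdaOps.lam i x)) * ((u * Y) ^ i * (u * (1 - Y)) ^ (m - i)) := by rw [h6, h5]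
      _ = _ := by rw [h3, mul_pow u Y, mul_pow u (1 - Y)]; ring
  rw [Finset.sum_congr rfl e1, key2]
  refine Finset.sum_congr rfl fun i hi => ?_
  have hi' := Finset.mem_range.1 hi
  have h3 : u ^ m = u ^ i * u ^ (m - i) := by rw [← pow_add]; congr 1; omega
  have h6 : PowerSeries.C L * X = u * Y := by
    calc PowerSeries.C L * X = PowerSeries.C L * X * (u * v) := by rw [huv, mul_one]
      _ = u * Y := by rw [hYdef]; ring
  calc u ^ m * (PowerSeries.C (g (gamma i (x - (m : K)))) * Y ^ i) =
        PowerSeries.C (g (gamma i (x - (m : K)))) * (u * Y) ^ i * u ^ (m - i) := by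
          rw [h3, mul_pow u Y]; ring
    _ = _ := by rw [← h6, mul_pow]; ring

/-- `γ^k(g(x) l^n - ε(x)) ∈ A^k` -/
lemma Hyp.gamma_mul_mem (H : Hyp P PQ g l r e) (n : ℕ) (x : K) (hx : x ∈ P.pos) (k : ℕ) :
    gamma k (g x * l ^ n - ((P.aug x).toNat : Q)) ∈ A P g l k := by
  have h1 : Rs P g l (gammaSeries (g x * l ^ n - ((P.aug x).toNat : Q))) := by
    rw [H.gammaSeries_mul n x hx]
    refine Rs_sum _ _ fun j _ => Rs_mul (Rs_mul (Rs_C_mul_X_pow (A_map ?_)) (Rs_pow (Rs_C (H.A_zero_eq _)) _))
      (Rs_pow (Rs_add Rs_one (Rs_C_mul_X_pow (A_pow_sub_one n))) _)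
    apply gamma_mem_filtration
    have := P.aug_pos x hx
    rw [map_sub, map_natCast, Int.toNat_of_nonneg this.le, sub_self]
  have h2 := h1 k
  rwa [coeff_gammaSeries] at h2

/-- elements all of whose `γ^k` are in `A^k` -/
def Good (P : PosStructure K) (g : K →+* Q) (l : Q) (x : Q) : Prop := ∀ k, gamma k x ∈ A P g l k

lemma Good_add {x y : Q} (hx : Good P g l x) (hy : Good P g l y) : Good P g l (x + y) := fun k => by
  rw [gamma_add]
  refine A_sum _ _ fun i hi => ?_
  have hi' := Finset.mem_range.1 hi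
  have h1 := A_mul (hx i) (hy (k - i))
  have h2 : i + (k - i) = k := by omega
  rwa [h2] at h1

lemma Good_neg {x : Q} (hx : Good P g l x) : Good P g l (-x) := by
  intro k
  induction k using Nat.strong_induction_on with
  | _ k ih =>
    rcases Nat.eq_zero_or_pos k with rfl | hk
    · rw [gamma_zero]; exact A_one
    · have h1 : gamma k (-x + x) = 0 := by
        have h := congrArg (coeff k) (gammaSeries_zero (K := Q))
        rw [coeff_gammaSeries, coeff_one, if_neg (by omega)] at h
        rw [neg_add_cancel, h]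
      rw [gamma_add, Finset.sum_range_succ] at h1
      have h2 : k - k = 0 := by omega
      rw [h2, gamma_zero, mul_one] at h1
      have h3 : gamma k (-x) = -(∑ i ∈ range k, gamma i (-x) * gamma (k - i) x) := by
        rw [eq_neg_iff_add_eq_zero, add_comm]; exact h1
      rw [h3]
      refine A_neg (A_sum _ _ fun i hi => ?_)
      have hi' := Finset.mem_range.1 hi
      have h4 := A_mul (ih i hi') (hx (k - i))
      have h5 : i + (k - i) = k := by omega
      rwa [h5] at h4

lemma Good_zero : Good P g l 0 := fun k => by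
  have h := congrArg (coeff k) (gammaSeries_zero (K := Q))
  rw [coeff_gammaSeries, coeff_one] at h
  rw [h]
  split_ifs with h0
  · subst h0; exact A_one
  · exact A_zero _

lemma Good_sum {ι : Type*} (s : Finset ι) (f : ι → Q) (h : ∀ i ∈ s, Good P g l (f i)) :
    Good P g l (∑ i ∈ s, f i) := by
  classical
  induction s using Finset.induction_on with
  | empty => simpa using Good_zero
  | insert a s ha ih =>
    rw [Finset.sum_insert ha]
    exact Good_add (h a (Finset.mem_insert_self _ _)) (ih fun i hi => h i (Finset.mem_insert_of_mem hi))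

/-- `g(a) l^n - ε(a)` is good for every `a` -/
lemma Hyp.good_mul (H : Hyp P PQ g l r e) (n : ℕ) (a : K) :
    Good P g l (g a * l ^ n - ((P.aug a : ℤ) : Q)) := by
  obtain ⟨x, y, hx, hy, rfl⟩ := P.exists_sub a
  have h1 : Good P g l (g x * l ^ n - ((P.aug x).toNat : Q)) := H.gamma_mul_mem n x hx
  have h2 : Good P g l (g y * l ^ n - ((P.aug y).toNat : Q)) := H.gamma_mul_mem n y hy
  have h3 : g (x - y) * l ^ n - ((P.aug (x - y) : ℤ) : Q) =
      (g x * l ^ n - ((P.aug x).toNat : Q)) + -(g y * l ^ n - ((P.aug y).toNat : Q)) := by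
    have e1 : ((P.aug x).toNat : Q) = ((P.aug x : ℤ) : Q) := by
      rw [← Int.cast_natCast, Int.toNat_of_nonneg (P.aug_pos x hx).le]
    have e2 : ((P.aug y).toNat : Q) = ((P.aug y : ℤ) : Q) := by
      rw [← Int.cast_natCast, Int.toNat_of_nonneg (P.aug_pos y hy).le]
    rw [e1, e2, map_sub, map_sub]
    push_cast
    ring
  rw [h3]
  exact Good_add h1 (Good_neg h2)

/-- `γ^k(x) ∈ A^k` for every `x` of augmentation zero -/
lemma Hyp.good (H : Hyp P PQ g l r e) (x : Q) (hx : PQ.aug x = 0) : Good P g l x := by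
  obtain ⟨a, rfl⟩ := H.bij.2 x
  have h1 : PQ.aug (∑ i : Fin (r + 1), g (a i) * l ^ (i : ℕ)) = ∑ i : Fin (r + 1), P.aug (a i) := by
    rw [map_sum]
    refine Finset.sum_congr rfl fun i _ => ?_
    rw [map_mul, map_pow, H.line.2, one_pow, mul_one, H.aug_map]
  have h1' : ∑ i : Fin (r + 1), P.aug (a i) = 0 := h1.symm.trans hx
  have h2 : (∑ i : Fin (r + 1), g (a i) * l ^ (i : ℕ)) =
      ∑ i : Fin (r + 1), (g (a i) * l ^ (i : ℕ) - ((P.aug (a i) : ℤ) : Q)) := by
    rw [Finset.sum_sub_distrib, ← Int.cast_sum, h1', Int.cast_zero, sub_zero]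
  change Good P g l (∑ i : Fin (r + 1), g (a i) * l ^ (i : ℕ))
  rw [h2]
  exact Good_sum _ _ fun i _ => H.good_mul _ _

/-- `F^k Q ⊆ A^k` -/
theorem Hyp.filtration_le (H : Hyp P PQ g l r e) (k : ℕ) {y : Q} (hy : y ∈ gammaFiltration PQ k) :
    y ∈ A P g l k := by
  rcases Nat.eq_zero_or_pos k with rfl | hk
  · exact H.A_zero_eq y
  rw [filtration_of_ne_zero PQ (by omega)] at hy
  refine AddSubgroup.closure_induction (p := fun y _ => y ∈ A P g l k) ?_ (A_zero k)
    (fun _ _ _ _ h1 h2 => A_add h1 h2) (fun _ _ h => A_neg h) hy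
  rintro _ ⟨L, hL, hs, rfl⟩
  refine A_anti hs ?_
  clear hs
  induction L with
  | nil => simpa using A_one
  | cons p L ih =>
    simp only [List.map_cons, List.sum_cons, List.prod_cons]
    exact A_mul (H.good _ (hL p List.mem_cons_self) _)
      (ih fun q hq => hL q (List.mem_cons_of_mem _ hq))

/-- The monic polynomial annihilating `l - 1`. -/
noncomputable def qpol (P : PosStructure K) (e : K) (r : ℕ) : Polynomial K :=
  ∑ i ∈ range (r + 2), Polynomial.C ((-1) ^ i * gamma i (e - ((r + 1 : ℕ) : K))) * Polynomial.X ^ (r + 1 - i)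

omit [LambdaOps Q] in
lemma toNat_aug (haug : P.aug e = r + 1) : (P.aug e).toNat = r + 1 := by
  rw [haug]; omega

lemma W_qpol (haug : P.aug e = r + 1) : W P (r + 1) (qpol P e r) := by
  intro i
  rw [qpol, Polynomial.finset_sum_coeff]
  refine sum_mem fun j hj => ?_
  have hj' := Finset.mem_range.1 hj
  rw [Polynomial.coeff_C_mul_X_pow]
  split_ifs with h
  · subst h
    have h1 : r + 1 - (r + 1 - j) = j := by omega
    rw [h1]
    refine mul_mem_filtration_left P _ _ _ (gamma_mem_filtration P ?_ _)
    rw [map_sub, map_natCast, haug]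
    push_cast
    ring
  · exact zero_mem _

lemma coeff_qpol (i : ℕ) : (qpol P e r).coeff i =
    if i ≤ r + 1 then (-1) ^ (r + 1 - i) * gamma (r + 1 - i) (e - ((r + 1 : ℕ) : K)) else 0 := by
  rw [qpol, Polynomial.finset_sum_coeff]
  simp only [Polynomial.coeff_C_mul_X_pow]
  split_ifs with h
  · rw [Finset.sum_eq_single (r + 1 - i)]
    · rw [if_pos (by omega)]
    · intro j hj hne
      have := Finset.mem_range.1 hj
      rw [if_neg (by omega)]
    · intro hn
      exact absurd (Finset.mem_range.2 (by omega)) hn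
  · refine Finset.sum_eq_zero fun j _ => ?_
    rw [if_neg (by omega)]

lemma natDegree_qpol [Nontrivial K] : (qpol P e r).natDegree = r + 1 := by
  refine Polynomial.natDegree_eq_of_le_of_coeff_ne_zero ?_ ?_
  · exact Polynomial.natDegree_le_iff_coeff_eq_zero.2 fun j hj => by
      rw [coeff_qpol, if_neg (by omega)]
  · rw [coeff_qpol, if_pos le_rfl]
    simp [gamma_zero]

lemma monic_qpol [Nontrivial K] : (qpol P e r).Monic := by
  rw [Polynomial.Monic, Polynomial.leadingCoeff, natDegree_qpol, coeff_qpol, if_pos le_rfl]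
  simp [gamma_zero]

/-- `l - 1` is a root of `qpol` -/
lemma Hyp.eval_qpol (H : Hyp P PQ g l r e) : (qpol P e r).eval₂ g (l - 1) = 0 := by
  have hm := toNat_aug H.aug
  have key := polynomial_gamma e H.pos
  rw [hm] at key
  -- evaluate the reflected identity: work with `Y = -(l-1)⁻¹` avoided by an explicit computation
  have hcoef : ∀ i, gamma i (e - ((r + 1 : ℕ) : K)) = ∑ j ∈ range (r + 2), LambdaOps.lam j e *
      ((Polynomial.X ^ j * (1 - Polynomial.X) ^ (r + 1 - j) : Polynomial K).coeff i) := by
    intro i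
    by_cases hi : i < r + 2
    · have h1 := congrArg (fun p => Polynomial.coeff p i) key
      simp only [Polynomial.finset_sum_coeff, Polynomial.coeff_C_mul, Polynomial.coeff_X_pow, mul_ite, mul_one,
        mul_zero] at h1
      rw [Finset.sum_ite_eq, if_pos (Finset.mem_range.2 hi)] at h1
      exact h1.symm
    · have h1 : gamma i (e - ((r + 1 : ℕ) : K)) = 0 := by
        rw [← coeff_gammaSeries, ← hm, gammaSeries_pos_sub P e H.pos, map_sum]
        refine Finset.sum_eq_zero fun j hj => ?_
        have hj' := Finset.mem_range.1 hj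
        rw [coeff_C_mul, coeff_X_pow_mul', if_pos (by omega)]
        have h2 : ((1 - X : PowerSeries K)) ^ ((P.aug e).toNat - j) =
            (((1 - Polynomial.X) ^ ((P.aug e).toNat - j) : Polynomial K) : PowerSeries K) := by
          simp
        rw [h2, Polynomial.coeff_coe, Polynomial.coeff_eq_zero_of_natDegree_lt, mul_zero]
        refine lt_of_le_of_lt Polynomial.natDegree_pow_le ?_
        have h3 : (1 - Polynomial.X : Polynomial K).natDegree ≤ 1 :=
          (Polynomial.natDegree_sub_le _ _).trans (by simpa using Polynomial.natDegree_X_le)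
        have h4 := Nat.mul_le_mul_left ((P.aug e).toNat - j) h3
        omega
      rw [h1]
      symm
      refine Finset.sum_eq_zero fun j hj => ?_
      have hj' := Finset.mem_range.1 hj
      rw [Polynomial.coeff_X_pow_mul', if_pos (by omega), Polynomial.coeff_eq_zero_of_natDegree_lt, mul_zero]
      refine lt_of_le_of_lt Polynomial.natDegree_pow_le ?_
      have h3 : (1 - Polynomial.X : Polynomial K).natDegree ≤ 1 :=
        (Polynomial.natDegree_sub_le _ _).trans (by simpa using Polynomial.natDegree_X_le)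
      have h4 := Nat.mul_le_mul_left (r + 1 - j) h3
      omega
  have hbin : ∀ j ∈ range (r + 2), ∑ i ∈ range (r + 2), (-1 : Q) ^ i *
      g ((Polynomial.X ^ j * (1 - Polynomial.X) ^ (r + 1 - j) : Polynomial K).coeff i) * (l - 1) ^ (r + 1 - i) =
      (-1) ^ j * l ^ (r + 1 - j) := by
    intro j hj
    have hj' := Finset.mem_range.1 hj
    have hc : ∀ i, (Polynomial.X ^ j * (1 - Polynomial.X) ^ (r + 1 - j) : Polynomial K).coeff i =
        if j ≤ i then (-1) ^ (i - j) * ((r + 1 - j).choose (i - j) : K) else 0 := by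
      intro i
      rw [Polynomial.coeff_X_pow_mul']
      split_ifs with h
      · have h2 : (1 - Polynomial.X : Polynomial K) ^ (r + 1 - j) =
            (((1 + Polynomial.X) ^ (r + 1 - j) : Polynomial K)).comp (Polynomial.C (-1) * Polynomial.X) := by
          rw [Polynomial.pow_comp, Polynomial.add_comp, Polynomial.one_comp, Polynomial.X_comp, sub_eq_add_neg]
          simp
        rw [h2, Polynomial.comp_C_mul_X_coeff, Polynomial.coeff_one_add_X_pow, mul_comm]
      · rfl
    have h1 : l ^ (r + 1 - j) = ∑ k ∈ range (r + 1 - j + 1), (l - 1) ^ (r + 1 - j - k) *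
        ((r + 1 - j).choose k : Q) := by
      have h2 : l = 1 + (l - 1) := by ring
      conv_lhs => rw [h2, add_pow]
      refine Finset.sum_congr rfl fun k hk => ?_
      rw [one_pow, one_mul]
    have hsplit : range (r + 2) = range (j + (r + 1 - j + 1)) := by congr 1; omega
    rw [hsplit, Finset.sum_range_add]
    have hz : ∑ i ∈ range j, (-1 : Q) ^ i *
        g ((Polynomial.X ^ j * (1 - Polynomial.X) ^ (r + 1 - j) : Polynomial K).coeff i) *
          (l - 1) ^ (r + 1 - i) = 0 := by
      refine Finset.sum_eq_zero fun i hi => ?_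
      have hi' := Finset.mem_range.1 hi
      rw [hc, if_neg (by omega), map_zero, mul_zero, zero_mul]
    rw [hz, zero_add, h1, Finset.mul_sum]
    refine Finset.sum_congr rfl fun k hk => ?_
    have hk' := Finset.mem_range.1 hk
    rw [hc, if_pos (by omega)]
    have e1 : j + k - j = k := by omega
    have e2 : r + 1 - (j + k) = r + 1 - j - k := by omega
    rw [e1, e2, map_mul, map_pow, map_neg, map_one, map_natCast, pow_add]
    have e3 : (-1 : Q) ^ k * (-1) ^ k = 1 := by rw [← mul_pow]; simp
    calc (-1 : Q) ^ j * (-1) ^ k * ((-1) ^ k * ((r + 1 - j).choose k : Q)) * (l - 1) ^ (r + 1 - j - k) =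
          (-1) ^ j * ((-1 : Q) ^ k * (-1) ^ k) * ((l - 1) ^ (r + 1 - j - k) * ((r + 1 - j).choose k : Q)) := by
            ring
      _ = _ := by rw [e3, mul_one]
  rw [qpol, Polynomial.eval₂_finset_sum]
  simp only [Polynomial.eval₂_mul, Polynomial.eval₂_C, Polynomial.eval₂_pow, Polynomial.eval₂_X]
  simp only [map_mul, map_pow, map_neg, map_one]
  simp only [hcoef, map_sum, map_mul]
  have h1 : ∑ i ∈ range (r + 2), (-1 : Q) ^ i * (∑ j ∈ range (r + 2), g (LambdaOps.lam j e) *
        g ((Polynomial.X ^ j * (1 - Polynomial.X) ^ (r + 1 - j) : Polynomial K).coeff i)) *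
          (l - 1) ^ (r + 1 - i) =
      ∑ j ∈ range (r + 2), g (LambdaOps.lam j e) * (∑ i ∈ range (r + 2), (-1 : Q) ^ i *
        g ((Polynomial.X ^ j * (1 - Polynomial.X) ^ (r + 1 - j) : Polynomial K).coeff i) *
          (l - 1) ^ (r + 1 - i)) := by
    simp only [Finset.mul_sum, Finset.sum_mul]
    rw [Finset.sum_comm]
    refine Finset.sum_congr rfl fun j _ => Finset.sum_congr rfl fun i _ => ?_
    ring
  rw [h1, ← H.rel]
  refine Finset.sum_congr rfl fun j hj => ?_
  rw [hbin j hj]
  ring

/-- `1, l - 1, …, (l-1)^r` are independent -/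
lemma Hyp.eq_zero_of_sum (H : Hyp P PQ g l r e) (p : Polynomial K) (hp : ∀ i, r + 1 ≤ i → p.coeff i = 0)
    (h : p.eval₂ g (l - 1) = 0) : p = 0 := by
  -- `p(T - 1)` has degree `≤ r` and vanishes at `l`
  let q : Polynomial K := p.comp (Polynomial.X - 1)
  have hdeg : p.natDegree ≤ r := Polynomial.natDegree_le_iff_coeff_eq_zero.2 fun j hj => hp j hj
  have hq : q.natDegree ≤ r := by
    refine Polynomial.natDegree_comp_le.trans ?_
    have h3 : (Polynomial.X - 1 : Polynomial K).natDegree ≤ 1 :=
      (Polynomial.natDegree_sub_le _ _).trans (by simpa using Polynomial.natDegree_X_le)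
    calc p.natDegree * (Polynomial.X - 1 : Polynomial K).natDegree ≤ p.natDegree * 1 :=
          Nat.mul_le_mul_left _ h3
      _ ≤ r := by omega
  have hev : q.eval₂ g l = 0 := by
    rw [Polynomial.eval₂_comp]
    simpa using h
  have h1 : q.eval₂ g l = ∑ i : Fin (r + 1), g (q.coeff i) * l ^ (i : ℕ) := by
    rw [Polynomial.eval₂_eq_sum_range' g (n := r + 1) (by omega), Finset.sum_range]
  have h2 : (fun i : Fin (r + 1) => q.coeff i) = 0 := by
    apply H.bij.1
    change ∑ i : Fin (r + 1), g (q.coeff i) * l ^ (i : ℕ) = ∑ i : Fin (r + 1), g ((0 : Fin (r + 1) → K) i) * l ^ (i : ℕ)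
    rw [← h1, hev]
    simp
  have h3 : q = 0 := by
    ext i
    rw [Polynomial.coeff_zero]
    by_cases hi : i < r + 1
    · exact congrFun h2 ⟨i, hi⟩
    · exact Polynomial.coeff_eq_zero_of_natDegree_lt (by omega)
  have h4 : p = q.comp (Polynomial.X + 1) := by
    simp only [q]
    rw [Polynomial.comp_assoc]
    simp
  rw [h4, h3, Polynomial.zero_comp]

/-- `K ∩ F^k Q = F^k K`. -/
theorem Hyp.comap_eq (H : Hyp P PQ g l r e) (k : ℕ) :
    (gammaFiltration PQ k).comap (g : K →+ Q) = gammaFiltration P k := by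
  have hnt : Nontrivial K := by
    refine ⟨0, 1, fun h => ?_⟩
    have h1 : P.aug (0 : K) = P.aug 1 := by rw [h]
    rw [map_zero, map_one] at h1
    exact zero_ne_one h1
  apply le_antisymm
  · intro x hx
    have hx' : g x ∈ gammaFiltration PQ k := hx
    obtain ⟨p, hp, hpx⟩ := H.filtration_le k hx'
    obtain ⟨p', s, hp', hp'', hs⟩ := exists_mod (P := P) (W_qpol H.aug) monic_qpol natDegree_qpol k
      (p.natDegree + 1) p hp (by omega)
    have h1 : p'.eval₂ g (l - 1) = g x := by
      have h2 := congrArg (Polynomial.eval₂ g (l - 1)) hs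
      rw [Polynomial.eval₂_add, Polynomial.eval₂_mul, H.eval_qpol, mul_zero, add_zero] at h2
      rw [← h2, hpx]
    have h3 : p' - Polynomial.C x = 0 := by
      apply H.eq_zero_of_sum
      · intro i hi
        rw [Polynomial.coeff_sub, hp'' i hi, Polynomial.coeff_C, if_neg (by omega), sub_zero]
      · rw [Polynomial.eval₂_sub, Polynomial.eval₂_C, h1, sub_self]
    have h4 := hp' 0
    rw [sub_eq_zero.1 h3, Polynomial.coeff_C_zero, Nat.sub_zero] at h4
    exact h4
  · intro x hx
    change g x ∈ gammaFiltration PQ k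
    have hgam : ∀ j (y : K), g (gamma j y) = gamma j (g y) := by
      intro j y
      simp only [gamma]
      split_ifs with h
      · rw [map_one]
      · rw [map_sum]
        refine Finset.sum_congr rfl fun i _ => ?_
        rw [map_mul, map_natCast]
        congr 1
        split_ifs with h'
        · rw [map_zero]
        · rw [H.lam_map]
    rcases Nat.eq_zero_or_pos k with rfl | hk
    · exact mem_filtration_zero PQ _
    rw [filtration_of_ne_zero P (by omega)] at hx
    refine AddSubgroup.closure_induction (p := fun y _ => g y ∈ gammaFiltration PQ k) ?_ ?_ ?_ ?_ hx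
    · rintro _ ⟨L, hL, hs, rfl⟩
      refine gens_subset PQ k ⟨L.map (fun p => (p.1, g p.2)), ?_, ?_, ?_⟩
      · intro p hp
        obtain ⟨q, hq, rfl⟩ := List.mem_map.1 hp
        rw [H.aug_map]
        exact hL q hq
      · rw [List.map_map]
        exact hs
      · rw [map_list_prod, List.map_map, List.map_map]
        congr 1
        refine List.map_congr_left fun q _ => ?_
        exact hgam _ _
    · rw [map_zero]; exact zero_mem _
    · intro x y _ _ hx hy
      rw [map_add]; exact add_mem hx hy
    · intro x _ hx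
      rw [map_neg]; exact neg_mem hx

end Groth.Agent.Krr.H483.GammaPB
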