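import Groth.Agent.Krr.H483.GammaPB
import Groth.Agent.Krr.H483.LamTwist
import Groth.Agent.Krr.H482.PullFinal
import Groth.Agent.Krr.H487.Taut
import Groth.Agent.Krr.H487.KerRank
import Groth.Agent.Krr.H495.Model
import Groth.Agent.S3788

/-!
# The splitting property for K(X): assembly

Existence of projective bundles (`ExistsPB`) and the structure of `K(P(E))` (`FreeK`, the statement of S3789)
imply the splitting property S3784.
-/

set_option autoImplicit false

universe v w u

open CategoryTheory CategoryTheory.Limits AlgebraicGeometry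

attribute [local instance] HasDerivedCategory.standard

namespace Groth.Agent.Krr.H483.Main

open KRR Groth.Agent.Krr.H482.PullLambda Groth.Agent.Krr.H482.PullFinal Groth.Agent.Krr.H483.LamTwist

/-- Existence of the projective bundle of a finite locally free module of positive rank on a connected Noetherian
scheme, connected and Noetherian. -/
def ExistsPB : Prop :=
  ∀ (X : Scheme.{u}) (_ : IsNoetherian X) (_ : ConnectedSpace ↥X) (r : ℕ) (E : X.Modules),
    FlatMod.IsFinLocFreeOfRank (r + 1) E →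
    ∃ (P : Scheme.{u}) (_ : IsNoetherian P) (_ : ConnectedSpace ↥P) (π : P ⟶ X) (O1 : P.Modules)
      (q : (Scheme.Modules.pullback π).obj E ⟶ O1), KRR.IsProjBundle π E O1 q

/-- The statement of S3789 (in the universe `u + 1`). -/
def FreeK : Prop :=
  ∀ (X P : Scheme.{u}) (_ : IsNoetherian X) (_ : ConnectedSpace ↥X) (_ : IsNoetherian P) (_ : ConnectedSpace ↥P)
    (r : ℕ) (E : X.Modules) (_ : FlatMod.IsFinLocFreeOfRank (r + 1) E)
    (π : P ⟶ X) (O1 : P.Modules) (q : (Scheme.Modules.pullback π).obj E ⟶ O1) (_ : KRR.IsProjBundle π E O1 q)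
    (KX : Type (u + 1)) [CommRing KX] [LambdaRing.LambdaOps KX] (PX : LambdaRing.PosStructure KX)
    (φX : SGA6.Kvb X →+ KX) (_ : KRR.IsModel X KX PX φX)
    (KP : Type (u + 1)) [CommRing KP] [LambdaRing.LambdaOps KP] (PP : LambdaRing.PosStructure KP)
    (φP : SGA6.Kvb P →+ KP) (_ : KRR.IsModel P KP PP φP)
    (g : KX →+ KP) (_ : KRR.IsPull π φX φP g),
    Function.Bijective (fun a : Fin (r + 1) → KX => ∑ i : Fin (r + 1), g (a i) * φP (KRR.cl P O1) ^ (i : ℕ))

section

variable {X : Scheme.{u}} {K : Type v} [CommRing K] [LambdaRing.LambdaOps K]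

/-- The conclusion of the splitting property. -/
def Conc (P : LambdaRing.PosStructure K) (φ : SGA6.Kvb X →+ K) (m : ℕ) (E : X.Modules) : Prop :=
  ∃ (X' : Scheme.{u}) (_ : IsNoetherian X') (_ : ConnectedSpace ↥X') (f : X' ⟶ X)
      (K' : Type (u + 1)) (_ : CommRing K') (_ : LambdaRing.LambdaOps K') (P' : LambdaRing.PosStructure K')
      (φ' : SGA6.Kvb X' →+ K') (_ : KRR.IsModel X' K' P' φ') (g : K →+ K') (_ : KRR.IsPull f φ φ' g),
      Function.Injective g ∧ (∀ k : ℕ, (LambdaRing.gammaFiltration P' k).comap g = LambdaRing.gammaFiltration P k) ∧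
      ∃ L : Fin m → X'.Modules, (∀ j, FlatMod.IsFinLocFreeOfRank 1 (L j)) ∧ g (φ (KRR.cl X E)) = ∑ j, φ' (KRR.cl X' (L j))

end

/-- Change of the model: the comparison of two models of the same scheme. -/
theorem conc_of_conc {X : Scheme.{u}} {K : Type v} [CommRing K] [LambdaRing.LambdaOps K]
    {P : LambdaRing.PosStructure K} {φ : SGA6.Kvb X →+ K} (hK : KRR.IsModel X K P φ)
    {K₁ : Type w} [CommRing K₁] [LambdaRing.LambdaOps K₁]
    {P₁ : LambdaRing.PosStructure K₁} {φ₁ : SGA6.Kvb X →+ K₁} (hK₁ : KRR.IsModel X K₁ P₁ φ₁)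
    {m : ℕ} {E : X.Modules} (hE : FlatMod.IsFinLocFree E) (h : Conc P₁ φ₁ m E) : Conc P φ m E := by
  obtain ⟨X', hN, hC, f, K', _, _, P', φ', hK', g, hg, hinj, hcomap, L, hL, hsum⟩ := h
  obtain ⟨t, ht⟩ := exists_isPull (𝟙 X) hK.bijective φ₁
  obtain ⟨s, hs⟩ := exists_isPull (𝟙 X) hK₁.bijective φ
  have hst : ∀ x, s (t x) = x := by
    have h1 : IsPull (𝟙 X) φ φ (s.comp t) := isPull_congr (Category.id_comp _) (isPull_comp hs ht)
    have h2 : s.comp t = AddMonoidHom.id K := isPull_unique hK h1 (isPull_id fun E _ => rfl)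
    exact fun x => DFunLike.congr_fun h2 x
  refine ⟨X', hN, hC, f, K', inferInstance, inferInstance, P', φ', hK', g.comp t,
    isPull_congr (Category.comp_id _) (isPull_comp hg ht),
    hinj.comp (Function.LeftInverse.injective hst), fun k => ?_, L, hL, ?_⟩
  · rw [← AddSubgroup.comap_comap, hcomap k]
    exact comap_gammaFiltration_of_section hK₁ hK ht (𝟙 X) (Category.id_comp _) k
  · rw [AddMonoidHom.comp_apply, ht E hE, ← hsum]
    exact congrArg (fun y => g (φ₁ y)) (cl_iso ((Scheme.Modules.pullbackId X).app E)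
      (isFinLocFree_pullback (𝟙 X) hE))

/-- Composition of a base change `π : Y ⟶ X` with a splitting over `Y`. -/
theorem conc_of_step {X Y : Scheme.{u}} {K : Type v} [CommRing K] [LambdaRing.LambdaOps K]
    {P : LambdaRing.PosStructure K} {φ : SGA6.Kvb X →+ K}
    {K₁ : Type w} [CommRing K₁] [LambdaRing.LambdaOps K₁]
    {P₁ : LambdaRing.PosStructure K₁} {φ₁ : SGA6.Kvb Y →+ K₁}
    (π : Y ⟶ X) (g₁ : K →+ K₁) (hg₁ : KRR.IsPull π φ φ₁ g₁)
    (hinj₁ : Function.Injective g₁)
    (hcomap₁ : ∀ k : ℕ, (LambdaRing.gammaFiltration P₁ k).comap g₁ = LambdaRing.gammaFiltration P k)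
    {m : ℕ} {E : X.Modules} {H O1 : Y.Modules}
    (hO1 : FlatMod.IsFinLocFreeOfRank 1 O1)
    (hcl : g₁ (φ (cl X E)) = φ₁ (cl Y H) + φ₁ (cl Y O1)) (h : Conc P₁ φ₁ m H) :
    Conc P φ (m + 1) E := by
  obtain ⟨X', hN, hC, f, K', _, _, P', φ', hK', g, hg, hinj, hcomap, L, hL, hsum⟩ := h
  refine ⟨X', hN, hC, f ≫ π, K', inferInstance, inferInstance, P', φ', hK', g.comp g₁,
    isPull_comp hg hg₁, hinj.comp hinj₁, fun k => ?_,
    Fin.cons ((Scheme.Modules.pullback f).obj O1) L, ?_, ?_⟩
  · rw [← AddSubgroup.comap_comap, hcomap k]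
    exact hcomap₁ k
  · intro j
    refine Fin.cases ?_ (fun i => ?_) j
    · exact isFinLocFreeOfRank_pullback f hO1
    · exact hL i
  · rw [Fin.sum_univ_succ]
    simp only [Fin.cons_zero, Fin.cons_succ]
    rw [AddMonoidHom.comp_apply, hcl, map_add, hsum, hg O1 (isFinLocFree_of_rank hO1), add_comm]

/-- The algebraic hypotheses of `GammaPB` hold for a projective bundle. -/
theorem hyp (hF : FreeK.{u}) {X P : Scheme.{u}} [IsNoetherian X] [ConnectedSpace ↥X] [IsNoetherian P]
    [ConnectedSpace ↥P]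
    {r : ℕ} {E : X.Modules} (hE : FlatMod.IsFinLocFreeOfRank (r + 1) E)
    {π : P ⟶ X} {O1 : P.Modules} {q : (Scheme.Modules.pullback π).obj E ⟶ O1} (hPB : KRR.IsProjBundle π E O1 q)
    {KX : Type (u + 1)} [CommRing KX] [LambdaRing.LambdaOps KX] {PX : LambdaRing.PosStructure KX}
    {φX : SGA6.Kvb X →+ KX} (hKX : KRR.IsModel X KX PX φX)
    {KP : Type (u + 1)} [CommRing KP] [LambdaRing.LambdaOps KP] {PP : LambdaRing.PosStructure KP}
    {φP : SGA6.Kvb P →+ KP} (hKP : KRR.IsModel P KP PP φP)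
    {g : KX →+ KP} (hg : KRR.IsPull π φX φP g) :
    GammaPB.Hyp PX PP (pullRingHom hKP hKX hg) (φP (cl P O1)) r (φX (cl X E)) where
  lam_map i x := pull_lam hKP hKX hg i x
  aug_map x := pull_aug hKP hKX hg x
  pos_map x hx := pull_pos hKP hKX hg hx
  line := isLine_cl hKP hPB.invertible
  lam_mul i n x _ := lam_mul_line_pow hKP (isLine_cl hKP hPB.invertible) _ i n
  pos := (hKX.mem_pos_iff _).2 ⟨r + 1, E, by omega, hE, rfl⟩
  aug := by rw [hKX.aug_cl _ E hE]; push_cast; rfl
  rel := Groth.Agent.S3788.result X P r E hE π O1 q hPB KX PX φX hKX KP PP φP hKP g hg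
  bij := hF X P inferInstance inferInstance inferInstance inferInstance r E hE π O1 q hPB KX PX φX hKX
    KP PP φP hKP g hg

/-- The pull-back of the class of `E` splits on the projective bundle. -/
theorem cl_pull {X P : Scheme.{u}}
    {r : ℕ} {E : X.Modules} (hE : FlatMod.IsFinLocFreeOfRank (r + 1) E)
    {π : P ⟶ X} {O1 : P.Modules} {q : (Scheme.Modules.pullback π).obj E ⟶ O1} (hPB : KRR.IsProjBundle π E O1 q)
    {KX : Type v} [CommRing KX] {φX : SGA6.Kvb X →+ KX}
    {KP : Type w} [CommRing KP] {φP : SGA6.Kvb P →+ KP}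
    {g : KX →+ KP} (hg : KRR.IsPull π φX φP g) :
    ∃ H : P.Modules, FlatMod.IsFinLocFreeOfRank r H ∧
      g (φX (cl X E)) = φP (cl P H) + φP (cl P O1) := by
  have := hPB.epi
  have hE' := isFinLocFreeOfRank_pullback π hE
  have hH : FlatMod.IsFinLocFreeOfRank r (kernel q) :=
    Groth.Agent.Krr.H487.KerRank.isFinLocFreeOfRank_kernel q hE' hPB.invertible
  refine ⟨kernel q, hH, ?_⟩
  rw [hg E (isFinLocFree_of_rank hE)]
  exact Groth.Agent.Krr.H487.Taut.cl_ses (Groth.Agent.Krr.H487.KerRank.shortExact_kernel q)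
    (isFinLocFree_of_rank hH) (isFinLocFree_of_rank hE') (isFinLocFree_of_rank hPB.invertible)

theorem hyp_injective {K : Type v} [CommRing K] [LambdaRing.LambdaOps K] {P : LambdaRing.PosStructure K}
    {Q : Type w} [CommRing Q] [LambdaRing.LambdaOps Q] {PQ : LambdaRing.PosStructure Q}
    {g : K →+* Q} {l : Q} {r : ℕ} {e : K} (H : GammaPB.Hyp P PQ g l r e) : Function.Injective g := by
  intro x y hxy
  have h := @H.bij.1 (fun i => if i = 0 then x else 0) (fun i => if i = 0 then y else 0) ?_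
  · simpa using congrFun h 0
  · simp only
    refine Finset.sum_congr rfl fun i _ => ?_
    split_ifs <;> simp [hxy]

/-- The splitting property, for models in the universe `u + 1`. -/
theorem conc_succ (hP : ExistsPB.{u}) (hF : FreeK.{u}) (m : ℕ) : ∀ (X : Scheme.{u}) (_ : IsNoetherian X)
    (_ : ConnectedSpace ↥X) (K : Type (u + 1)) [CommRing K] [LambdaRing.LambdaOps K]
    (P : LambdaRing.PosStructure K) (φ : SGA6.Kvb X →+ K) (_ : KRR.IsModel X K P φ) (E : X.Modules)
    (_ : FlatMod.IsFinLocFreeOfRank m E), Conc P φ m E := by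
  induction m with
  | zero =>
    intro X hN hC K _ _ P φ hK E hE
    refine ⟨X, hN, hC, 𝟙 X, K, inferInstance, inferInstance, P, φ, hK, AddMonoidHom.id K,
      isPull_id fun E _ => rfl, Function.injective_id, fun k => ?_, Fin.elim0, fun j => j.elim0, ?_⟩
    · rfl
    · rw [Finset.univ_eq_empty, Finset.sum_empty, AddMonoidHom.id_apply]
      have h0 : cl X E = 0 :=
        Groth.Agent.Sga67.SesImage.clSub_zero (vbP X) (Groth.Agent.Krr.H487.Taut.isZero_of_rank_zero hE)
      rw [h0, map_zero]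
  | succ r ih =>
    intro X hN hC K _ _ P φ hK E hE
    obtain ⟨Y, hNY, hCY, π, O1, q, hPB⟩ := hP X hN hC r E hE
    have hKY := Groth.Agent.Krr.H495.Model.isModel Y
    obtain ⟨g₁, hg₁⟩ := exists_isPull π hK.bijective (Groth.Agent.Sga67.KvbRing.toKR Y).toAddMonoidHom
    have H := hyp hF hE hPB hK hKY hg₁
    obtain ⟨H', hH', hcl⟩ := cl_pull hE hPB hg₁
    exact conc_of_step π g₁ hg₁ (hyp_injective H) (fun k => H.comap_eq k) hPB.invertible hcl
      (ih Y hNY hCY _ _ _ hKY H' hH')

/-- The splitting property from the existence of projective bundles and the structure of their `K`. -/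
theorem conc (hP : ExistsPB.{u}) (hF : FreeK.{u}) (X : Scheme.{u}) [IsNoetherian X] [ConnectedSpace ↥X]
    (K : Type v) [CommRing K] [LambdaRing.LambdaOps K] (P : LambdaRing.PosStructure K) (φ : SGA6.Kvb X →+ K)
    (hK : KRR.IsModel X K P φ) (m : ℕ) (E : X.Modules) (hE : FlatMod.IsFinLocFreeOfRank m E) :
    Conc P φ m E :=
  conc_of_conc hK (Groth.Agent.Krr.H495.Model.isModel X) (isFinLocFree_of_rank hE)
    (conc_succ hP hF m X inferInstance inferInstance _ _ _ (Groth.Agent.Krr.H495.Model.isModel X) E hE)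

end Groth.Agent.Krr.H483.Main
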